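import Mathlib
import Cfsg.Agent.S0005
import Cfsg.Agent.S0126

/-!
# Hall `{p, r}`-subgroups above a Sylow subgroup

* `exists_norm` : `y` a `p`-element of a solvable normal subgroup `R` of the finite group `G`, and every `{p, r}`-subgroup
  containing the Sylow `r`-subgroup `Q` normalises `Q`: then `y` normalises a Sylow `r`-subgroup of `G`;
* `exists_commute` : in a non-cyclic `p`-group, `p` odd, every `y` of order `p` commutes with some `e` of order `p`,
  `e ∉ ⟨y⟩`.
-/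

set_option autoImplicit false

namespace Cfsg.Agent.H605.Exc.Hall

open Subgroup

variable {G : Type*} [Group G]

theorem isSolvable_sup {R Q : Subgroup G} [hR : R.Normal] (hs : Group.IsSolvable R) (hq : Group.IsSolvable Q) :
    Group.IsSolvable ↥(R ⊔ Q) := by
  have h1 : Group.IsSolvable ↥(R.subgroupOf (R ⊔ Q)) :=
    Group.isSolvable_of_surjective (f := (subgroupOfEquivOfLe (le_sup_left : R ≤ R ⊔ Q)).symm.toMonoidHom)
      (subgroupOfEquivOfLe _).symm.surjective
  let f : ↥Q →* (↥(R ⊔ Q) ⧸ R.subgroupOf (R ⊔ Q)) :=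
    (QuotientGroup.mk' (R.subgroupOf (R ⊔ Q))).comp (Subgroup.inclusion le_sup_right)
  have hf : Function.Surjective f := by
    intro z
    obtain ⟨⟨z, hz⟩, rfl⟩ := QuotientGroup.mk'_surjective (R.subgroupOf (R ⊔ Q)) z
    obtain ⟨a, ha, b, hb, rfl⟩ := Subgroup.mem_sup_of_normal_left.1 hz
    refine ⟨⟨b, hb⟩, ?_⟩
    show QuotientGroup.mk' (R.subgroupOf (R ⊔ Q)) _ = _
    rw [QuotientGroup.mk'_apply, QuotientGroup.mk'_apply, QuotientGroup.eq, mem_subgroupOf]
    show b⁻¹ * (a * b) ∈ R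
    have := hR.conj_mem a ha b⁻¹
    rwa [inv_inv, mul_assoc] at this
  have h2 : Group.IsSolvable (↥(R ⊔ Q) ⧸ R.subgroupOf (R ⊔ Q)) := Group.isSolvable_of_surjective hf
  exact (Group.isSolvable_iff_subgroup_quotient (R.subgroupOf (R ⊔ Q))).2 ⟨h1, h2⟩

/-- **Hall subgroups above a Sylow subgroup.** -/
theorem exists_norm [Finite G] {p r : ℕ} [hp : Fact p.Prime] [hr : Fact r.Prime] (hpr : p ≠ r) {R : Subgroup G}
    [hR : R.Normal] (hRs : Group.IsSolvable R) {y : G} (hyR : y ∈ R) (hy : ∃ n : ℕ, y ^ p ^ n = 1) (Q : Sylow r G)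
    (hkey : ∀ E : Subgroup G, (Q : Subgroup G) ≤ E → (∀ z ∈ E, ∃ i j : ℕ, z ^ (r ^ i * p ^ j) = 1) →
      ∀ z ∈ E, ∀ q ∈ (Q : Subgroup G), z * q * z⁻¹ ∈ (Q : Subgroup G)) :
    ∃ P : Sylow r G, ∀ q ∈ (P : Subgroup G), y * q * y⁻¹ ∈ (P : Subgroup G) := by
  classical
  have hQs : Group.IsSolvable (Q : Subgroup G) := by
    have := Q.isPGroup'.isNilpotent
    infer_instance
  set D : Subgroup G := R ⊔ (Q : Subgroup G) with hD
  have hDs : Group.IsSolvable D := isSolvable_sup hRs hQs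
  have hyD : y ∈ D := mem_sup_left hyR
  -- the numbers
  have hD0 : Nat.card D ≠ 0 := Nat.card_pos.ne'
  set a := (Nat.card D).factorization r with ha
  set b := (Nat.card D).factorization p with hb
  have hdvd : r ^ a * p ^ b ∣ Nat.card D := by
    refine Nat.Coprime.mul_dvd_of_dvd_of_dvd ?_ (Nat.ordProj_dvd _ _) (Nat.ordProj_dvd _ _)
    exact Nat.Coprime.pow _ _ ((Nat.coprime_primes hr.out hp.out).2 hpr.symm)
  obtain ⟨n, hn⟩ := hdvd
  have hrn : ¬ r ∣ n := by
    rintro ⟨m, rfl⟩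
    apply Nat.pow_succ_factorization_not_dvd hD0 hr.out
    rw [← ha, hn]
    exact ⟨p ^ b * m, by rw [pow_succ]; ring⟩
  have hpn : ¬ p ∣ n := by
    rintro ⟨m, rfl⟩
    apply Nat.pow_succ_factorization_not_dvd hD0 hp.out
    rw [← hb, hn]
    exact ⟨r ^ a * m, by rw [pow_succ]; ring⟩
  have hcr : (r ^ a * p ^ b).Coprime n :=
    Nat.Coprime.mul_left (((Nat.Prime.coprime_iff_not_dvd hr.out).2 hrn).pow_left a)
      (((Nat.Prime.coprime_iff_not_dvd hp.out).2 hpn).pow_left b)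
  obtain ⟨k, hk⟩ := hy
  have hyo : ∃ j, Nat.card (zpowers (⟨y, hyD⟩ : D)) = p ^ j := by
    rw [Nat.card_zpowers]
    have h1 : orderOf (⟨y, hyD⟩ : D) ∣ p ^ k := orderOf_dvd_of_pow_eq_one (Subtype.ext hk)
    obtain ⟨j, -, hj⟩ := (Nat.dvd_prime_pow hp.out).1 h1
    exact ⟨j, hj⟩
  obtain ⟨H, hH, hyH⟩ := S0005.result (G := D) (r ^ a * p ^ b) n hn hcr (zpowers (⟨y, hyD⟩ : D)) (by
    obtain ⟨j, hj⟩ := hyo
    rw [hj]
    exact ((Nat.Prime.coprime_iff_not_dvd hp.out).2 hpn).pow_left j)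
  -- the image of `H` in `G`
  set E := H.map D.subtype with hE
  have hyE : y ∈ E := ⟨⟨y, hyD⟩, hyH (mem_zpowers _), rfl⟩
  have hcE : Nat.card E = r ^ a * p ^ b := by
    rw [hE, card_map_of_injective D.subtype_injective, hH]
  have hEord : ∀ z ∈ E, ∃ i j : ℕ, z ^ (r ^ i * p ^ j) = 1 := by
    intro z hz
    refine ⟨a, b, ?_⟩
    have h1 : orderOf z ∣ Nat.card E := by
      have := orderOf_dvd_natCard (⟨z, hz⟩ : E)
      rwa [orderOf_mk] at this
    rw [hcE] at h1
    exact orderOf_dvd_iff_pow_eq_one.1 h1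
  -- a Sylow subgroup of `E` is a Sylow subgroup of `G`
  obtain ⟨P⟩ : Nonempty (Sylow r E) := inferInstance
  set P1 := (P : Subgroup E).map E.subtype with hP1
  have hPE : P1 ≤ E := map_subtype_le _
  have hPp : IsPGroup r P1 := P.isPGroup'.map _
  have hcP : Nat.card P1 = Nat.card (Q : Subgroup G) := by
    have h1 : Nat.card P1 = r ^ a := by
      rw [hP1, card_map_of_injective E.subtype_injective, P.card_eq_multiplicity, hcE]
      congr 1
      rw [Nat.factorization_mul (pow_ne_zero _ hr.out.ne_zero) (pow_ne_zero _ hp.out.ne_zero), Finsupp.add_apply,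
        hr.out.factorization_pow, hp.out.factorization_pow, Finsupp.single_eq_same,
        Finsupp.single_eq_of_ne hpr.symm, add_zero]
    have h2 : Nat.card (Q : Subgroup G) = r ^ a := by
      have hQD : (Q : Subgroup G) ≤ D := le_sup_right
      have h3 := (Q.subtype hQD).card_eq_multiplicity
      rw [← ha] at h3
      rw [← h3]
      show _ = Nat.card ((Q : Subgroup G).subgroupOf D)
      exact (Nat.card_congr (subgroupOfEquivOfLe hQD).toEquiv).symm
    rw [h1, h2]
  obtain ⟨P', hP'⟩ := hPp.exists_le_sylow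
  have hPeq : (P' : Subgroup G) = P1 := by
    symm
    apply Subgroup.eq_of_le_of_card_ge hP'
    rw [hcP]
    exact (Nat.card_congr (P'.equiv Q).toEquiv).le
  obtain ⟨g, hg⟩ := MulAction.exists_smul_eq G Q P'
  have hg' : ∀ z, z ∈ P1 ↔ g⁻¹ * z * g ∈ (Q : Subgroup G) := by
    intro z
    rw [← hPeq, ← hg, Sylow.coe_subgroup_smul, mem_pointwise_smul_iff_inv_smul_mem, ← map_inv, MulAut.smul_def,
      MulAut.conj_apply, inv_inv]
  refine ⟨P', fun q hq => ?_⟩
  rw [hPeq] at hq ⊢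
  rw [hg'] at hq ⊢
  have h1 := hkey (E.map (MulAut.conj g⁻¹).toMonoidHom) (fun q hq => by
      refine ⟨g * q * g⁻¹, hPE ?_, ?_⟩
      · rw [hg']
        have : g⁻¹ * (g * q * g⁻¹) * g = q := by group
        rwa [this]
      · show g⁻¹ * (g * q * g⁻¹) * g⁻¹⁻¹ = q
        group) (by
      rintro _ ⟨z, hz, rfl⟩
      obtain ⟨i, j, h⟩ := hEord z hz
      exact ⟨i, j, by rw [← map_pow, h, map_one]⟩) (g⁻¹ * y * g) (by
      refine ⟨y, hyE, ?_⟩
      show g⁻¹ * y * g⁻¹⁻¹ = _
      rw [inv_inv]) _ hq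
  have e : g⁻¹ * y * g * (g⁻¹ * q * g) * (g⁻¹ * y * g)⁻¹ = g⁻¹ * (y * q * y⁻¹) * g := by group
  rwa [e] at h1

/-- **Commuting elements of order `p`** in a non-cyclic `p`-group. -/
theorem exists_commute {P : Subgroup G} [Finite P] {p : ℕ} [hp : Fact p.Prime] (hp2 : p ≠ 2) (hP : IsPGroup p P)
    (hnc : ¬ IsCyclic P) {y : G} (hyP : y ∈ P) (hy : orderOf y = p) :
    ∃ e : G, e * y = y * e ∧ e ^ p = 1 ∧ e ∉ zpowers y := by
  obtain ⟨A, hAn, ⟨hA1, hA2⟩, hA3⟩ := S0126.result hp2 hP hnc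
  have hAcomm : ∀ a ∈ A, ∀ b ∈ A, a * b = b * a := fun a ha b hb =>
    congrArg Subtype.val (hA1.is_comm.comm (⟨a, ha⟩ : A) ⟨b, hb⟩)
  have hcy : Nat.card (zpowers y) = p := by rw [Nat.card_zpowers, hy]
  by_cases hyA : (⟨y, hyP⟩ : P) ∈ A
  · -- `y ∈ A`
    obtain ⟨e, he, hne⟩ : ∃ e ∈ A, e ∉ zpowers (⟨y, hyP⟩ : P) := by
      by_contra hcon
      push Not at hcon
      have h1 : A ≤ zpowers (⟨y, hyP⟩ : P) := hcon
      have h2 := Subgroup.card_le_of_le h1
      rw [hA3, Nat.card_zpowers, orderOf_mk, hy] at h2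
      have := hp.out.one_lt
      nlinarith
    refine ⟨e, congrArg Subtype.val (hAcomm e he _ hyA), congrArg Subtype.val (hA2 e he), fun h => hne ?_⟩
    obtain ⟨i, hi⟩ := h
    exact ⟨i, Subtype.ext hi⟩
  · -- `y` has a fixed point on `A`
    set y' : P := ⟨y, hyP⟩ with hy'
    have h1 : IsPGroup p (zpowers y') := hP.to_subgroup _
    -- the action of `⟨y⟩` on `A`
    let act : MulAction (zpowers y') A :=
      MulAction.compHom A ((MulAut.conjNormal (H := A)).comp (zpowers y').subtype)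
    have hact : ∀ (g : zpowers y') (a : A), ((g • a : A) : P) = (g : P) * a * (g : P)⁻¹ := fun g a => rfl
    have hcard : p ∣ Nat.card A := by rw [hA3]; exact dvd_pow_self p two_ne_zero
    have hone : (1 : A) ∈ MulAction.fixedPoints (zpowers y') A := by
      intro g
      apply Subtype.ext
      rw [hact]
      simp
    obtain ⟨a, ha, hne⟩ := h1.exists_fixed_point_of_prime_dvd_card_of_fixed_point A hcard hone
    have hc : (y' : P) * a * (y' : P)⁻¹ = a := by
      have := congrArg Subtype.val (ha ⟨y', mem_zpowers _⟩)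
      rwa [hact] at this
    have hcomm : (a : P) * y' = y' * a := by
      have : (y' : P) * a = ((y' : P) * a * (y' : P)⁻¹) * y' := by group
      rw [this, hc]
    refine ⟨((a : P) : G), congrArg Subtype.val hcomm, congrArg Subtype.val (hA2 _ a.2), fun h => ?_⟩
    -- `a ∈ ⟨y⟩`: then `y ∈ A`
    have h2 : (a : P) ∈ zpowers y' := by
      obtain ⟨i, hi⟩ := h
      exact ⟨i, Subtype.ext hi⟩
    have h3 : zpowers (a : P) = zpowers y' := by
      apply Subgroup.eq_of_le_of_card_ge (by rwa [zpowers_le])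
      rw [Nat.card_zpowers, Nat.card_zpowers]
      have h4 : orderOf (a : P) = p := by
        refine orderOf_eq_prime (hA2 _ a.2) ?_
        intro h5
        exact hne (Subtype.ext h5.symm)
      rw [h4, hy', orderOf_mk, hy]
    apply hyA
    have h5 : y' ∈ zpowers (a : P) := by rw [h3]; exact mem_zpowers _
    exact (zpowers_le.2 a.2) h5

end Cfsg.Agent.H605.Exc.Hall
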