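import Mathlib
import Cfsg.Agent.H666.FixP
import Cfsg.Agent.H666.FixChev

/-!
# `{p, l}`-subgroups of `C_Y(t)^τ` above a Sylow `p`-subgroup normalise it, `p` the characteristic

* `norm_of_pl` : `Dt : NInst.Dat R t S τ g`, `l ≥ 5` a prime: a subgroup `E` of `C = fixC τ t` containing `U ∩ C` all of
  whose elements have order `p ^ i l ^ j` normalises `U ∩ C`;
* `endNorm` : the form for `D.group k`.
-/

set_option autoImplicit false
set_option linter.unusedSectionVars false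

namespace Cfsg.Agent.H605.Exc.Norm

open CoxeterSystem Cfsg.Agent.ChevalleyStructure.CoxeterGeom Cfsg.Agent.Tits.Roots Cfsg.Agent.Tits.Core
  Cfsg.Agent.Tits.RootComb Cfsg.Agent.Tits.Exchange Cfsg.Agent.Nodes.Reps Cfsg.Agent.Nodes.BNOf
  Cfsg.Agent.Nodes.StabComb Cfsg.Agent.Nodes.Bruhat Cfsg.Agent.Nodes.OppDec Cfsg.Agent.Nodes.LeviDec
  Cfsg.Agent.Nodes.NormalForm Cfsg.Agent.Nodes.Unique Cfsg.Agent.KFacts.RgdField
  Cfsg.Agent.BpExc.Fr Cfsg.Agent.BpExc.Pair Cfsg.Agent.BpExc.NSol Cfsg.Agent.BpExc.NInst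
open Cfsg.Agent.H666.FixP
open scoped commutatorElement

section

variable {I W Y : Type*} [Fintype I] [DecidableEq I] [Group W] [Group Y] {M : CoxeterMatrix I}
  {cs : CoxeterSystem M W} {A : I → I → ℤ} {h : IsCartan M A} {p : ℕ} {T : Subgroup Y} {n : I → Y}
  {X : (I → ℤ) → Subgroup Y} {R : RGD cs h p T n X} {t : Y} {S : Set (I → ℤ)} {τ : MulAut Y}
  {g : (I → ℤ) ≃+ (I → ℤ)} (D : Cfsg.Agent.BpExc.NInst.Dat R t S τ g)

include D

/-- **`{p, l}`-subgroups above a Sylow `p`-subgroup normalise it.** -/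
theorem norm_of_pl [Finite W] [Fact p.Prime] (H : SL R)
    (hcomb : ∀ a ∈ S, ∀ b ∈ S, ∀ i j : ℤ, IsRoot cs h (i • a + j • b) → i • a + j • b ∈ S)
    {l : ℕ} (hl : l.Prime) (hl2 : l ≠ 2) (hl3 : p = 2 → l ≠ 3)
    {E : Subgroup Y} (hEC : E ≤ fixC τ t) (hUE : RGD.Sup X (SP S) ⊓ fixC τ t ≤ E)
    (hordE : ∀ z ∈ E, ∃ i j : ℕ, z ^ (p ^ i * l ^ j) = 1) {y : Y} (hy : y ∈ E) :
    y ∈ Subgroup.normalizer (RGD.Sup X (SP S) : Set Y) := by
  have hpp : p.Prime := Fact.out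
  obtain ⟨u, hu, w, k, hkC, hk, v, hv, hvV, e⟩ := D.exists_form (hEC hy)
  have hkt : k ∈ Subgroup.centralizer {t} := Subgroup.mem_centralizer_singleton_iff.2 (mem_fixC.1 hkC).2
  by_cases hno : ∀ a ∈ SP S, ¬ rep cs h w a ≤ 0
  · have hkn := D.mem_normalizer hk hkt (fun a ha => by
      rcases ((D.root a ha.1).act w).pos_or_neg with h1 | h1
      · exact h1
      · exact absurd h1 (hno a ha))
    have hun : ∀ x ∈ RGD.Sup X (SP S), x ∈ Subgroup.normalizer (RGD.Sup X (SP S) : Set Y) := fun x hx =>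
      Subgroup.le_normalizer hx
    rw [e]
    exact mul_mem (mul_mem (hun u hu.1) hkn) (hun v hv.1)
  · exfalso
    push Not at hno
    obtain ⟨a, ha, hneg⟩ := hno
    have hkE : k ∈ E := by
      have h1 : k = u⁻¹ * y * v⁻¹ := by rw [e]; group
      rw [h1]
      exact E.mul_mem (E.mul_mem (E.inv_mem (hUE hu)) hy) (E.inv_mem (hUE hv))
    obtain ⟨⟨c, hcE, -, w', hw', hw1, hw2⟩, h3⟩ := core D H hcomb hk hkC ha hneg hUE hkE
    by_cases hp2 : p = 2
    · obtain ⟨z, hzE, -, hz3, hz1⟩ := h3 hp2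
      obtain ⟨i, j, h4⟩ := hordE z hzE
      apply hz1
      have h5 : Nat.Coprime 3 (p ^ i * l ^ j) := by
        refine Nat.Coprime.mul_right (Nat.Coprime.pow_right i ?_) (Nat.Coprime.pow_right j ?_)
        · rw [hp2]; norm_num
        · exact (Nat.coprime_primes Nat.prime_three hl).2 (hl3 hp2).symm
      have h6 : orderOf z ∣ 3 := orderOf_dvd_of_pow_eq_one hz3
      have h7 : orderOf z ∣ p ^ i * l ^ j := orderOf_dvd_of_pow_eq_one h4
      have h8 : orderOf z ∣ 1 := by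
        rw [← h5.gcd_eq_one]
        exact Nat.dvd_gcd h6 h7
      exact orderOf_eq_one_iff.1 (Nat.dvd_one.1 h8)
    · obtain ⟨i, j, h4⟩ := hordE c hcE
      apply hw1
      have hodd : Odd (p ^ i * l ^ j) := (hpp.odd_of_ne_two hp2).pow.mul (hl.odd_of_ne_two hl2).pow
      have h5 := rp_pow D hw' (p ^ i * l ^ j)
      rw [h4] at h5
      have h6 : w' ^ (p ^ i * l ^ j) = 1 := rp_unique (R := R) h5 rp_one
      obtain ⟨q, hq⟩ := hodd
      rw [hq, pow_succ, pow_mul, pow_two, hw2, one_pow, one_mul] at h6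
      exact h6

end

end Cfsg.Agent.H605.Exc.Norm
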