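import Mathlib
import Cfsg.Agent.H605.Exc.Norm

/-!
# `{r, s}`-subgroups of `C_Y(t)^τ`, `Y = D.group k`, above a Sylow `r`-subgroup, `r` the characteristic

* `endNorm`.
-/

set_option autoImplicit false
set_option linter.unusedSectionVars false

namespace Cfsg.Agent.H605.Exc.EndNorm

open CoxeterSystem Cfsg Cfsg.Lie Cfsg.Lie.ChevalleyDatum
open Cfsg.Agent.ChevalleyStructure Cfsg.Agent.ChevalleyStructure.Elts Cfsg.Agent.ChevalleyStructure.CoxeterGeom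
  Cfsg.Agent.ChevalleyStructure.CoxeterGeomTypes Cfsg.Agent.ChevalleyStructure.NPerm
open Cfsg.Agent.Tits.Roots Cfsg.Agent.Tits.Core Cfsg.Agent.Nodes Cfsg.Agent.Nodes.Reps Cfsg.Agent.Nodes.BNOf
  Cfsg.Agent.Nodes.RGDChev Cfsg.Agent.Nodes.Bruhat Cfsg.Agent.Nodes.NormalForm
open Cfsg.Agent.KFacts.RgdField Cfsg.Agent.KFacts.RgdChevCoord
open Cfsg.Agent.BpExc Cfsg.Agent.BpExc.TorCent Cfsg.Agent.BpExc.TorChev Cfsg.Agent.BpExc.Tow
  Cfsg.Agent.BpExc.TowChev Cfsg.Agent.BpExc.Fr Cfsg.Agent.BpExc.Pair Cfsg.Agent.BpExc.LangFr Cfsg.Agent.GpExc.Field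
  Cfsg.Agent.BpExc.NInst Cfsg.Agent.BpExc.NChev
open Cfsg.Agent.ChevalleyStructure.SL2Hom Cfsg.Agent.ETable.Exc Cfsg.Agent.H666.FixChev
open scoped commutatorElement

universe u

variable {D : ChevalleyDatum} {l : ℕ} {M : CoxeterMatrix (Fin l)} (hp : IsType D l M) {k : Type u} [Field k]
  {W : Type*} [Group W] (cs : CoxeterSystem M W)

/-- **`{r, s}`-subgroups of `C_Y(t)^τ` above a Sylow `r`-subgroup normalise it.** -/
theorem endNorm [IsAlgClosed k] (hk : LocFin k) {r e q s : ℕ} [Fact r.Prime] [CharP k r] (hq : q.Prime) (hqr : q ≠ r)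
    {t : ↥(D.group k)} (ht : t ∈ TT D k) (htq : t ^ q = 1) (he : 0 < e) {τ : MulAut ↥(D.group k)}
    (hτ : IsFrob r e τ) {g : (Fin l → ℤ) ≃+ (Fin l → ℤ)} (F : Fr cs hp.isCartan (TT D k) (XX D l k) τ g)
    (hτt : τ t = t) (hpos : ∀ a ∈ Sx cs hp.isCartan (ch hp) t, 0 ≤ a → 0 ≤ g a) [Finite ↥(fixC τ t)]
    (hs : s.Prime) (hs2 : s ≠ 2) (hs3 : r = 2 → s ≠ 3) (hne : (Sx cs hp.isCartan (ch hp) t).Nonempty) :
    ∃ V : Subgroup ↥(D.group k), (∃ Q : Sylow r ↥(fixC τ t), (Q : Subgroup ↥(fixC τ t)) = V.subgroupOf (fixC τ t)) ∧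
      (∃ u ∈ V, u ∈ fixC τ t ∧ u ≠ 1) ∧
      ∀ E : Subgroup ↥(D.group k), E ≤ fixC τ t → V ⊓ fixC τ t ≤ E → (∀ z ∈ E, ∃ i j : ℕ, z ^ (r ^ i * s ^ j) = 1) →
        ∀ y ∈ E, y ∈ Subgroup.normalizer (V : Set ↥(D.group k)) := by
  have := finite_W hp cs
  obtain ⟨E, Dt⟩ := exists_dat hp cs hk ht he hτ F hτt hpos
  have H := tow (k := k) hp cs hk r
  have C := coordsL (k := k) hp cs hk r
  have hA := chAddL (k := k) hp cs hk r
  have hTL := TL_eq (k := k) hp hk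
  have hXL := XL_eq (k := k) hp hk
  have hT : Tj hp E ≤ TT D k := by rw [← hTL]; exact le_TL E
  have C' : Coords cs hp.isCartan (TL (Tj hp (k := k))) (nc hp k) (XL (Xj hp (k := k))) (xc hp) (ch hp) := by
    rw [hTL, hXL]; exact C
  have ht' : t ∈ TL (Tj hp (k := k)) := by rw [hTL]; exact ht
  have hchi : ∀ a, IsRoot cs hp.isCartan a → ch hp a t ^ q = 1 := by
    intro a ha
    have h0 : ch hp a (1 : ↥(D.group k)) = 1 := by
      have h1 := (C.coord a ha).chi_mul (one_mem (TT D k)) (one_mem _)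
      rw [mul_one] at h1
      exact (mul_eq_left₀ ((C.coord a ha).chi_ne_zero (one_mem _))).1 h1.symm
    have h1 : ∀ m : ℕ, ch hp a (t ^ m) = ch hp a t ^ m := by
      intro m
      induction m with
      | zero => rw [pow_zero, pow_zero, h0]
      | succ m ih => rw [pow_succ, pow_succ, (C.coord a ha).chi_mul (pow_mem ht m) ht, ih]
    rw [← h1, htq, h0]
  have hPP : ∀ w kk, Rp cs (H.rgd E).nsys w kk → kk ∈ Subgroup.centralizer {t} →
      (∀ a ∈ Sx cs hp.isCartan (ch hp) t, 0 ≤ a → 0 ≤ rep cs hp.isCartan w a) →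
      w ∈ PP cs hp.isCartan (ch hp) t := by
    refine fun w kk hkk hkt hw => ⟨fun a ha => ?_, hw⟩
    have h1 := C'.chi_rp H.nsys (H.rp_up hkk) ha ht'
    have h2 : kk * t * kk⁻¹ = t := by rw [Subgroup.mem_centralizer_singleton_iff.1 hkt]; group
    rwa [h2] at h1
  obtain ⟨hPs, -⟩ := Dt.main (fun a ha b hb => TT_comm hp a (hT ha) b (hT hb)) hq hqr
    (PP cs hp.isCartan (ch hp) t) (isPGroup_PP hA ht hq hchi) hPP
  refine ⟨RGD.Sup (Xj hp E) (SP (Sx cs hp.isCartan (ch hp) t)), hPs, ?_, ?_⟩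
  · obtain ⟨u, hu, hu1, hτu⟩ := Dt.exists_fixed (Ψ := SP (Sx cs hp.isCartan (ch hp) t)) (by
      obtain ⟨a, ha⟩ := hne
      rcases ha.1.pos_or_neg with h1 | h1
      · exact ⟨a, ha, h1⟩
      · exact ⟨-a, Dt.neg a ha, neg_nonneg.2 h1⟩) subset_rfl
      (fun a ha => ⟨Dt.g_mem ha.1, Dt.pos a ha.1 ha.2⟩)
      (fun a ha b hb z hz ⟨i, j, _, _, e⟩ => ⟨hz, by
        rw [e]
        exact add_nonneg (nsmul_nonneg ha.2 i) (nsmul_nonneg hb.2 j)⟩)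
    exact ⟨u, hu, mem_fixC.2 ⟨hτu, Subgroup.mem_centralizer_singleton_iff.1 (Dt.U_cent hu)⟩, hu1⟩
  · intro E' hE1 hE2 hE3 y hy
    exact Norm.norm_of_pl Dt (sl_lev hp cs hk r E) (sx_comb cs hA ht) hs hs2 hs3 hE1 hE2 hE3 hy

end Cfsg.Agent.H605.Exc.EndNorm
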