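import Mathlib
import Cfsg.Agent.H605.Exc.EndNorm
import Cfsg.Agent.H469.Exc.Unip

/-!
# `{r, s}`-subgroups of `C(x)` in the fixed points of a Frobenius automorphism of `D.group k`

* `fixNorm` : `σ x = x`, `x ^ q = 1`, `z x z⁻¹ ∈ TT D k`, `Sx (z x z⁻¹) ≠ ∅` : an `{r, s}`-subgroup, `s ≥ 5`, of `C(x)^σ`
  containing the Sylow `r`-subgroup `V ∩ C(x)^σ` normalises it.
-/

set_option autoImplicit false
set_option linter.unusedSectionVars false

namespace Cfsg.Agent.H605.Exc.FixNorm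

open CoxeterSystem Cfsg Cfsg.Lie Cfsg.Lie.ChevalleyDatum
open Cfsg.Agent.ChevalleyStructure Cfsg.Agent.ChevalleyStructure.Elts Cfsg.Agent.ChevalleyStructure.CoxeterGeom
  Cfsg.Agent.ChevalleyStructure.CoxeterGeomTypes Cfsg.Agent.ChevalleyStructure.NPerm
open Cfsg.Agent.Tits.Roots Cfsg.Agent.Tits.Core Cfsg.Agent.Nodes Cfsg.Agent.Nodes.Reps Cfsg.Agent.Nodes.BNOf
  Cfsg.Agent.Nodes.RGDChev Cfsg.Agent.Nodes.Bruhat Cfsg.Agent.Nodes.NormalForm
open Cfsg.Agent.KFacts.RgdField Cfsg.Agent.KFacts.RgdChevCoord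
open Cfsg.Agent.BpExc Cfsg.Agent.BpExc.TorCent Cfsg.Agent.BpExc.TorChev Cfsg.Agent.BpExc.Tow
  Cfsg.Agent.BpExc.TowChev Cfsg.Agent.BpExc.Fr Cfsg.Agent.BpExc.Pair Cfsg.Agent.BpExc.LangFr Cfsg.Agent.GpExc.Field
  Cfsg.Agent.BpExc.NInst Cfsg.Agent.BpExc.NChev Cfsg.Agent.BpExc.Asm
open scoped commutatorElement

universe u v

/-- transport of the conclusion -/
theorem transport {Y : Type u} [Group Y] {σ : MulAut Y} {x z' t k' : Y} (h1 : z'⁻¹ * x * z' = t) (h2 : z'⁻¹ * σ z' = k')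
    {r s : ℕ} [Fact r.Prime] [Finite ↥(fixC (MulAut.conj k' * σ) t)] [Finite ↥(fixC σ x)]
    {V : Subgroup Y}
    (hQ : ∃ Q : Sylow r ↥(fixC (MulAut.conj k' * σ) t),
      (Q : Subgroup ↥(fixC (MulAut.conj k' * σ) t)) = V.subgroupOf (fixC (MulAut.conj k' * σ) t))
    (hu : ∃ u ∈ V, u ∈ fixC (MulAut.conj k' * σ) t ∧ u ≠ 1)
    (hE : ∀ E : Subgroup Y, E ≤ fixC (MulAut.conj k' * σ) t → V ⊓ fixC (MulAut.conj k' * σ) t ≤ E →
      (∀ z ∈ E, ∃ i j : ℕ, z ^ (r ^ i * s ^ j) = 1) → ∀ y ∈ E, y ∈ Subgroup.normalizer (V : Set Y)) :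
    ∃ V' : Subgroup Y, (∃ Q : Sylow r ↥(fixC σ x), (Q : Subgroup ↥(fixC σ x)) = V'.subgroupOf (fixC σ x)) ∧
      (∃ u ∈ V', u ∈ fixC σ x ∧ u ≠ 1) ∧
      ∀ E : Subgroup Y, E ≤ fixC σ x → V' ⊓ fixC σ x ≤ E → (∀ z ∈ E, ∃ i j : ℕ, z ^ (r ^ i * s ^ j) = 1) →
        ∀ y ∈ E, y ∈ Subgroup.normalizer (V' : Set Y) := by
  have hf : ∀ y : ↥(fixC (MulAut.conj k' * σ) t), ((fixEquiv h1 h2 y : ↥(fixC σ x)) : Y) = z' * y * z'⁻¹ := fun _ => rfl
  have hmemV : ∀ y, y ∈ V.map (MulAut.conj z').toMonoidHom ↔ z'⁻¹ * y * z' ∈ V := by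
    intro y
    constructor
    · rintro ⟨v, hv, rfl⟩
      have e : z'⁻¹ * (MulAut.conj z').toMonoidHom v * z' = v := by
        show z'⁻¹ * (z' * v * z'⁻¹) * z' = v
        group
      rwa [e]
    · intro hv
      refine ⟨_, hv, ?_⟩
      show z' * (z'⁻¹ * y * z') * z'⁻¹ = y
      group
  have hmemC : ∀ y, y ∈ fixC σ x → z'⁻¹ * y * z' ∈ fixC (MulAut.conj k' * σ) t := by
    intro y hy
    obtain ⟨w, hw⟩ := (fixEquiv h1 h2).surjective ⟨y, hy⟩
    have h3 := congrArg Subtype.val hw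
    rw [hf] at h3
    have h4 : z'⁻¹ * y * z' = w := by
      have : y = z' * (w : Y) * z'⁻¹ := h3.symm
      rw [this]; group
    rw [h4]
    exact w.2
  have hmemC' : ∀ y, z'⁻¹ * y * z' ∈ fixC (MulAut.conj k' * σ) t → y ∈ fixC σ x := by
    intro y hy
    have h3 := (fixEquiv h1 h2 ⟨_, hy⟩).2
    rw [hf] at h3
    have e : z' * (z'⁻¹ * y * z') * z'⁻¹ = y := by group
    rwa [e] at h3
  obtain ⟨Q, hQ⟩ := hQ
  obtain ⟨u, huV, huC, hu1⟩ := hu
  have hsurj : Function.Surjective ⇑(fixEquiv h1 h2).toMonoidHom := (fixEquiv h1 h2).surjective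
  refine ⟨V.map (MulAut.conj z').toMonoidHom, ⟨Q.mapSurjective hsurj, ?_⟩, ⟨z' * u * z'⁻¹, ?_, ?_, ?_⟩, ?_⟩
  · rw [Sylow.coe_mapSurjective, hQ]
    ext y
    constructor
    · rintro ⟨w, hw, rfl⟩
      rw [SetLike.mem_coe, Subgroup.mem_subgroupOf] at hw
      rw [Subgroup.mem_subgroupOf, hmemV]
      show z'⁻¹ * (z' * (w : Y) * z'⁻¹) * z' ∈ V
      have e : z'⁻¹ * (z' * (w : Y) * z'⁻¹) * z' = w := by group
      rwa [e]
    · intro hy
      rw [Subgroup.mem_subgroupOf, hmemV] at hy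
      obtain ⟨w, hw⟩ := (fixEquiv h1 h2).surjective y
      refine ⟨w, ?_, hw⟩
      rw [SetLike.mem_coe, Subgroup.mem_subgroupOf]
      have h3 := congrArg Subtype.val hw
      rw [hf] at h3
      have h4 : z'⁻¹ * (y : Y) * z' = w := by
        rw [← h3]; group
      rwa [← h4]
  · rw [hmemV]
    have e : z'⁻¹ * (z' * u * z'⁻¹) * z' = u := by group
    rwa [e]
  · apply hmemC'
    have e : z'⁻¹ * (z' * u * z'⁻¹) * z' = u := by group
    rwa [e]
  · intro h3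
    apply hu1
    have e : u = z'⁻¹ * (z' * u * z'⁻¹) * z' := by group
    rw [e, h3]; group
  · intro E hE1 hE2 hE3 y hy
    have hback : ∀ y, y ∈ E.map (MulAut.conj z'⁻¹).toMonoidHom ↔ z' * y * z'⁻¹ ∈ E := by
      intro y
      constructor
      · rintro ⟨v, hv, rfl⟩
        have e : z' * (MulAut.conj z'⁻¹).toMonoidHom v * z'⁻¹ = v := by
          show z' * (z'⁻¹ * v * z'⁻¹⁻¹) * z'⁻¹ = v
          group
        rwa [e]
      · intro hv
        refine ⟨_, hv, ?_⟩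
        show z'⁻¹ * (z' * y * z'⁻¹) * z'⁻¹⁻¹ = y
        group
    have h3 := hE (E.map (MulAut.conj z'⁻¹).toMonoidHom) (by
        intro w hw
        rw [hback] at hw
        have h4 := hmemC _ (hE1 hw)
        have e : z'⁻¹ * (z' * w * z'⁻¹) * z' = w := by group
        rwa [e] at h4) (by
        rintro w ⟨hw1, hw2⟩
        rw [hback]
        have e : z'⁻¹ * (z' * w * z'⁻¹) * z' = w := by group
        refine hE2 ⟨?_, ?_⟩
        · exact (hmemV _).2 (by rw [e]; exact hw1)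
        · apply hmemC'
          rw [e]; exact hw2) (by
        intro w hw
        rw [hback] at hw
        obtain ⟨i, j, h4⟩ := hE3 _ hw
        refine ⟨i, j, ?_⟩
        rw [conj_pow] at h4
        have h5 := congrArg (fun a => z'⁻¹ * a * z') h4
        have e : ∀ a, z'⁻¹ * (z' * a * z'⁻¹) * z' = a := fun a => by group
        simp only [e] at h5
        rw [h5]; group) (z'⁻¹ * y * z') (by
        rw [hback]
        have e : z' * (z'⁻¹ * y * z') * z'⁻¹ = y := by group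
        rwa [e])
    rw [Subgroup.mem_normalizer_iff] at h3 ⊢
    intro w
    have h4 := h3 (z'⁻¹ * w * z')
    have e : z'⁻¹ * y * z' * (z'⁻¹ * w * z') * (z'⁻¹ * y * z')⁻¹ = z'⁻¹ * (y * w * y⁻¹) * z' := by group
    rw [e] at h4
    show w ∈ V.map (MulAut.conj z').toMonoidHom ↔ y * w * y⁻¹ ∈ V.map (MulAut.conj z').toMonoidHom
    rw [hmemV, hmemV]
    exact h4

variable {D : ChevalleyDatum} {l : ℕ} {M : CoxeterMatrix (Fin l)} (hp : IsType D l M) {k : Type u} [Field k]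
  {W : Type v} [Group W] (cs : CoxeterSystem M W)

/-- **`{r, s}`-subgroups of `C(x)^σ` above a Sylow `r`-subgroup normalise it.** -/
theorem fixNorm [IsAlgClosed k] (hk : LocFin k) {r e q s : ℕ} [Fact r.Prime] [CharP k r] (hq : q.Prime) (hqr : q ≠ r)
    {σ : MulAut ↥(D.group k)} {g : (Fin l → ℤ) ≃+ (Fin l → ℤ)} (he : 0 < e) (hσ : IsFrob r e σ)
    (Fσ : Fr cs hp.isCartan (TT D k) (XX D l k) σ g) [Finite ↥(fixedSubgroup σ)] {x : ↥(D.group k)}
    (hσx : σ x = x) (hxq : x ^ q = 1) {z : ↥(D.group k)} (hz : z * x * z⁻¹ ∈ TT D k)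
    (hne : (Sx cs hp.isCartan (ch hp) (z * x * z⁻¹)).Nonempty)
    (hs : s.Prime) (hs2 : s ≠ 2) (hs3 : r = 2 → s ≠ 3) :
    ∃ V : Subgroup ↥(D.group k), (∃ Q : Sylow r ↥(fixC σ x), (Q : Subgroup ↥(fixC σ x)) = V.subgroupOf (fixC σ x)) ∧
      (∃ u ∈ V, u ∈ fixC σ x ∧ u ≠ 1) ∧
      ∀ E : Subgroup ↥(D.group k), E ≤ fixC σ x → V ⊓ fixC σ x ≤ E → (∀ z ∈ E, ∃ i j : ℕ, z ^ (r ^ i * s ^ j) = 1) →
        ∀ y ∈ E, y ∈ Subgroup.normalizer (V : Set ↥(D.group k)) := by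
  have := finite_W hp cs
  have hTL := TL_eq (k := k) hp hk
  have hXL := XL_eq (k := k) hp hk
  have C := coordsL (k := k) hp cs hk r
  have hA := chAddL (k := k) hp cs hk r
  have hG := GG_eq_top (k := k) hp cs hk
  have Fσ' : Fr cs hp.isCartan (TL (Tj hp (k := k))) (XL (Xj hp (k := k))) σ g := by rw [hTL, hXL]; exact Fσ
  set t : ↥(D.group k) := z * x * z⁻¹ with ht
  have ht' : t ∈ TL (Tj hp (k := k)) := by rw [hTL]; exact hz
  have htq : t ^ q = 1 := by rw [ht, conj_pow, hxq, mul_one, mul_inv_cancel]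
  have C' : Coords cs hp.isCartan (TL (Tj hp (k := k))) (nc hp k) (XL (Xj hp (k := k))) (xc hp) (ch hp) := by
    rw [hTL, hXL]; exact C
  have hA' : ChAdd cs hp.isCartan (TL (Tj hp (k := k))) (ch (K := k) hp) := by rw [hTL]; exact hA
  obtain ⟨z', k', g', h1, h2, h3, h4, h5⟩ := pair_reduction (tow hp cs hk r) C' hA' hG Fσ' hσx (z := z⁻¹) (t := t)
    (by rw [ht]; group) ht' (fun k' g' F' htt m hm => by
      have h1 := fun a => F'.mem_Sx C' ht' htt a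
      rw [hTL, hXL] at F'
      rw [hXL] at hm ⊢
      exact lang_fr hp cs he (hσ.conj_mul k') F' (S := Sx cs hp.isCartan (ch hp) t) (fun a ha => ha.1)
        (fun a ha => (h1 a).2 ha) hm)
  rw [hTL, hXL] at h3
  have hfin := finite_conj h2
  have hf1 : Finite ↥(fixC (MulAut.conj k' * σ) t) := Finite.of_injective (Subgroup.inclusion (fixC_le _ _))
    (Subgroup.inclusion_injective _)
  have hf2 : Finite ↥(fixC σ x) := Finite.of_injective (Subgroup.inclusion (fixC_le _ _))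
    (Subgroup.inclusion_injective _)
  obtain ⟨V, a1, a2, a3⟩ := EndNorm.endNorm hp cs hk hq hqr hz htq he (hσ.conj_mul k') h3 h4 h5 hs hs2 hs3 hne
  exact transport h1 h2 a1 a2 a3

end Cfsg.Agent.H605.Exc.FixNorm
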