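import Mathlib
import Cfsg.Agent.H605.Exc.FixNorm
import Cfsg.Agent.H605.Exc.Hall
import Cfsg.Agent.H469.Exc.Model
import Cfsg.Agent.H459.Iface

/-!
# Inner radical automorphisms of prime order `p ≥ 5` of the exceptional groups of characteristic `r ≠ p`

* `inner_of_model` : `K₀` in the fixed points of a Frobenius automorphism of `D.group k`, `y ∈ K₀` of order `p`, such that
  `conj y` acts trivially on `M / Rad M` for the proper invariant subgroups `M`: `y` normalises an `r`-subgroup `≠ 1` or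
  the Sylow `p`-subgroups of `K₀` are cyclic.
-/

set_option autoImplicit false
set_option linter.unusedSectionVars false

namespace Cfsg.Agent.H605.Exc.Inner

open CoxeterSystem Subgroup Cfsg Cfsg.Lie Cfsg.Lie.ChevalleyDatum
open Cfsg.Agent.ChevalleyStructure Cfsg.Agent.ChevalleyStructure.Elts Cfsg.Agent.ChevalleyStructure.CoxeterGeom
  Cfsg.Agent.ChevalleyStructure.CoxeterGeomTypes Cfsg.Agent.ChevalleyStructure.NPerm
open Cfsg.Agent.Tits.Roots Cfsg.Agent.Tits.Core Cfsg.Agent.Nodes Cfsg.Agent.Nodes.Reps Cfsg.Agent.Nodes.BNOf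
  Cfsg.Agent.Nodes.RGDChev Cfsg.Agent.Nodes.Bruhat Cfsg.Agent.Nodes.NormalForm
open Cfsg.Agent.KFacts.RgdField Cfsg.Agent.KFacts.RgdChevCoord
open Cfsg.Agent.BpExc Cfsg.Agent.BpExc.FamField Cfsg.Agent.BpExc.TorCent Cfsg.Agent.BpExc.TorChev Cfsg.Agent.BpExc.Tow
  Cfsg.Agent.BpExc.TowChev Cfsg.Agent.BpExc.Fr Cfsg.Agent.BpExc.Pair Cfsg.Agent.BpExc.LangFr Cfsg.Agent.GpExc.Field
  Cfsg.Agent.BpExc.FamUntw Cfsg.Agent.BpExc.FamInst
open Cfsg.Agent.H469.Exc Cfsg.Agent.H459.Rad Cfsg.Agent.H459.Iface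

universe u v

variable {D : ChevalleyDatum} {l : ℕ} {M : CoxeterMatrix (Fin l)} {hp : IsType D l M} {r : ℕ} [hr : Fact r.Prime]
  {K₀ : Type v} [Group K₀]

/-- `y ∈ Rad (C(c))` normalises a Sylow `r`-subgroup of `C(c)`. -/
theorem fixR_of_mem_rad [Finite K₀] {p : ℕ} [hpf : Fact p.Prime] (h5 : 5 ≤ p) (hpr : p ≠ r)
    {σ : MulAut ↥(D.group (KK r))} {g : (Fin l → ℤ) ≃+ (Fin l → ℤ)} {e : ℕ} (ι : K₀ →* ↥(D.group (KK r)))
    (he : 0 < e) (hσ : IsFrob r e σ) (Fσ : Fr M.toCoxeterSystem hp.isCartan (TT D (KK r)) (XX D l (KK r)) σ g)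
    [Finite ↥(fixedSubgroup σ)] (hι : Function.Injective ι) (hfix : ∀ a, σ (ι a) = ι a)
    (hidx : ∀ y, σ y = y → ∃ m : ℕ, m.Coprime r ∧ y ^ m ∈ ι.range)
    {c : K₀} (hcp : c ^ p = 1) {z : ↥(D.group (KK r))} (hz : z * ι c * z⁻¹ ∈ TT D (KK r))
    (hne : (Sx M.toCoxeterSystem hp.isCartan (ch hp) (z * ι c * z⁻¹)).Nonempty)
    {y : K₀} (hyp : y ^ p = 1) (hyc : y ∈ centralizer ({c} : Set K₀))
    (hrad : (⟨y, hyc⟩ : centralizer ({c} : Set K₀)) ∈ solvableRadical (centralizer ({c} : Set K₀))) :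
    FixR r (MulAut.conj y) := by
  classical
  have hk := locFin r
  have hp2 : p ≠ 2 := by omega
  have hp3 : r = 2 → p ≠ 3 := fun _ => by omega
  obtain ⟨V, ⟨Q, hQ⟩, ⟨u, huV, huC, hu1⟩, hkey⟩ := FixNorm.fixNorm hp M.toCoxeterSystem hk hpf.out hpr he hσ Fσ
    (hfix c) (by rw [← map_pow, hcp, map_one]) hz hne hpf.out hp2 hp3
  set C := centralizer ({c} : Set K₀) with hC
  -- the embedding
  have hmem : ∀ m : C, ι m ∈ fixC σ (ι c) := fun m => mem_fixC.2 ⟨hfix _, by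
    rw [← map_mul, ← map_mul, mem_centralizer_singleton_iff.1 m.2]⟩
  let j : C →* ↥(fixC σ (ι c)) := (ι.comp C.subtype).codRestrict _ hmem
  have hj : ∀ m : C, ((j m : ↥(fixC σ (ι c))) : ↥(D.group (KK r))) = ι m := fun _ => rfl
  have hjinj : Function.Injective j := by
    intro a b hab
    have h1 := congrArg Subtype.val hab
    rw [hj, hj] at h1
    exact Subtype.ext (hι h1)
  have hmemQ : ∀ w : ↥(fixC σ (ι c)), w ∈ (Q : Subgroup ↥(fixC σ (ι c))) ↔ (w : ↥(D.group (KK r))) ∈ V := fun w => by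
    rw [hQ, mem_subgroupOf]
  have hQj : (Q : Subgroup ↥(fixC σ (ι c))) ≤ j.range := by
    intro w hw
    obtain ⟨i, hi⟩ := Q.isPGroup' ⟨w, hw⟩
    have hi' : (w : ↥(D.group (KK r))) ^ r ^ i = 1 :=
      congrArg (fun a => ((a : (Q : Subgroup ↥(fixC σ (ι c)))) : ↥(fixC σ (ι c))).1) hi
    obtain ⟨h1, h2⟩ := mem_fixC.1 w.2
    obtain ⟨m, hm, hmr⟩ := hidx w h1
    obtain ⟨a, ha⟩ := mem_of_pow hi' hm hmr
    refine ⟨⟨a, ?_⟩, Subtype.ext ha⟩
    rw [hC, mem_centralizer_singleton_iff]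
    apply hι
    rw [map_mul, map_mul, ha, h2]
  have hfC : Finite C := inferInstance
  let Q₀ : Sylow r C := Q.comapOfInjective j hjinj hQj
  have hQ₀ : ∀ m : C, m ∈ (Q₀ : Subgroup C) ↔ ι m ∈ V := fun m => by
    show j m ∈ (Q : Subgroup ↥(fixC σ (ι c))) ↔ _
    rw [hmemQ, hj]
  obtain ⟨P, hP⟩ := Hall.exists_norm (G := C) hpr (R := solvableRadical C) (rad_solvable C) hrad
    ⟨1, by rw [pow_one]; exact Subtype.ext hyp⟩ Q₀ (fun E hE1 hE2 w hw q hq => by
      have h1 := hkey (E.map (ι.comp C.subtype)) (by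
          rintro _ ⟨m, hm, rfl⟩
          exact hmem m) (by
          rintro v ⟨hv1, hv2⟩
          have h2 : (⟨v, hv2⟩ : ↥(fixC σ (ι c))) ∈ (Q : Subgroup ↥(fixC σ (ι c))) := (hmemQ _).2 hv1
          obtain ⟨m, hm⟩ := hQj h2
          have hm' : ι m = v := congrArg Subtype.val hm
          refine ⟨m, hE1 ((hQ₀ m).2 (by rw [hm']; exact hv1)), hm'⟩) (by
          rintro _ ⟨m, hm, rfl⟩
          obtain ⟨a, b, h2⟩ := hE2 m hm
          exact ⟨a, b, by rw [← map_pow, h2, map_one]⟩) (ι w) ⟨w, hw, rfl⟩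
      rw [hQ₀]
      have h2 := (mem_normalizer_iff.1 h1 (ι q)).1 ((hQ₀ q).1 hq)
      rw [Subgroup.coe_mul, Subgroup.coe_mul, Subgroup.coe_inv, map_mul, map_mul, map_inv]
      exact h2)
  refine ⟨(P : Subgroup C).map C.subtype, ?_, P.isPGroup'.map _, ?_⟩
  · intro h1
    rw [(Subgroup.map_eq_bot_iff_of_injective _ C.subtype_injective)] at h1
    have h2 : Nat.card (Q₀ : Subgroup C) = 1 := by
      rw [Nat.card_congr (Q₀.equiv P).toEquiv, h1, card_bot]
    have h3 : (Q₀ : Subgroup C) = ⊥ := card_eq_one.1 h2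
    have h4 : (⟨u, huC⟩ : ↥(fixC σ (ι c))) ∈ (Q : Subgroup ↥(fixC σ (ι c))) := (hmemQ _).2 huV
    obtain ⟨m, hm⟩ := hQj h4
    have hm' : ι m = u := congrArg Subtype.val hm
    have h5 : m ∈ (Q₀ : Subgroup C) := (hQ₀ m).2 (by rw [hm']; exact huV)
    rw [h3, mem_bot] at h5
    apply hu1
    rw [← hm', h5, Subgroup.coe_one, map_one]
  · rintro _ ⟨a, ha, rfl⟩
    refine ⟨⟨y, hyc⟩ * a * ⟨y, hyc⟩⁻¹, hP a ha, rfl⟩

/-- **The inner radical automorphisms.** -/
theorem inner_of_model (h : Model hp r K₀) [Finite K₀] (hZ : center K₀ = ⊥) {p : ℕ} [hpf : Fact p.Prime] (h5 : 5 ≤ p)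
    (hpr : p ≠ r) (hreg : NonReg hp p) (hl : 0 < l) {y : K₀} (hy : orderOf y = p) (hRC : RC (MulAut.conj y)) :
    FixR r (MulAut.conj y) ∨ ∀ P : Sylow p K₀, IsCyclic (P : Subgroup K₀) := by
  classical
  rw [or_iff_not_imp_right]
  intro hnc
  push Not at hnc
  obtain ⟨P₀, hP₀⟩ := hnc
  have hpp := hpf.out
  have hp2 : p ≠ 2 := by omega
  have hyp : y ^ p = 1 := by rw [← hy]; exact pow_orderOf_eq_one y
  -- a Sylow subgroup containing `y`
  have hyP : IsPGroup p (zpowers y) := by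
    refine IsPGroup.of_card (n := 1) ?_
    rw [Nat.card_zpowers, hy, pow_one]
  obtain ⟨P, hP⟩ := hyP.exists_le_sylow
  have hPnc : ¬ IsCyclic (P : Subgroup K₀) := fun hc => hP₀ (isCyclic_of_surjective (P.equiv P₀) (P.equiv P₀).surjective)
  obtain ⟨b, hby, hbp, hbn⟩ := Hall.exists_commute hp2 P.isPGroup' hPnc (hP (mem_zpowers y)) hy
  obtain ⟨σ, g, e, ι, he, hσ, Fσ, hfin, hι, hfix, hidx⟩ := h
  have hk := locFin r
  -- `y` commuting with an `r`-element
  have key : ∀ (z : ↥(D.group (KK r))), z * ι y * z⁻¹ ∈ TT D (KK r) →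
      (Sx M.toCoxeterSystem hp.isCartan (ch hp) (z * ι y * z⁻¹)).Nonempty → FixR r (MulAut.conj y) := by
    intro z hz hne
    obtain ⟨u, hu1, ⟨j, hj⟩, hσu, huc⟩ := exists_unip_fix hp M.toCoxeterSystem hk he hσ Fσ (hfix y) hz hne
    obtain ⟨m, hm, hmr⟩ := hidx u hσu
    obtain ⟨u', rfl⟩ := mem_of_pow hj hm hmr
    refine FixR.of_mem (v := u') (fun h1 => hu1 (by rw [h1, map_one])) ?_ ⟨j, hι (by rw [map_pow, hj, map_one])⟩
    rw [MulAut.conj_apply]
    have h1 : u' * y = y * u' := hι (by rw [map_mul, map_mul]; exact huc)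
    rw [← h1]; group
  obtain ⟨z, hz⟩ := TorAll.exists_toral' hp r hpp hpr (y := ι y) (by rw [← map_pow, hyp, map_one])
  have hz' : z⁻¹ * ι y * z⁻¹⁻¹ ∈ TT D (KK r) := by rwa [inv_inv]
  have hzp : (z⁻¹ * ι y * z⁻¹⁻¹) ^ p = 1 := by rw [conj_pow, ← map_pow, hyp, map_one, mul_one, mul_inv_cancel]
  rcases hreg with hW | hW
  · have hα : IsRoot M.toCoxeterSystem hp.isCartan (sr (⟨0, hl⟩ : Fin l)) := isRoot_sr _ _ _
    rcases exists_common hp M.toCoxeterSystem (r := r) hk hpp hW hα (a := ι y) (b := ι b)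
      (by rw [← map_mul, ← hby, map_mul]) (by rw [← map_pow, hyp, map_one]) (by rw [← map_pow, hbp, map_one]) hz' with
      h1 | ⟨i, h1, h2⟩
    · exact key _ hz' h1
    · have e1 : ι b * ι y ^ i = ι (b * y ^ i) := by rw [map_mul, map_pow]
      rw [e1] at h1 h2
      set c := b * y ^ i with hc
      have hcy : Commute y c := by
        have h3 : Commute y b := hby.symm
        exact h3.mul_right (Commute.pow_right (Commute.refl y) i)
      have hcp : c ^ p = 1 := by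
        have h3 : Commute b (y ^ i) := Commute.pow_right hby i
        rw [hc, h3.mul_pow, hbp, one_mul, ← pow_mul, mul_comm i p, pow_mul, hyp, one_pow]
      have hc1 : c ≠ 1 := by
        intro h3
        apply hbn
        rw [eq_inv_of_mul_eq_one_left h3]
        exact inv_mem (pow_mem (mem_zpowers y) i)
      have hyc : y ∈ centralizer ({c} : Set K₀) := mem_centralizer_singleton_iff.2 hcy.eq
      have hCtop : centralizer ({c} : Set K₀) ≠ ⊤ := by
        intro h3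
        apply hc1
        have h4 : c ∈ center K₀ := by
          rw [mem_center_iff]
          intro g
          have : g ∈ centralizer ({c} : Set K₀) := by rw [h3]; exact mem_top g
          exact mem_centralizer_singleton_iff.1 this
        rwa [hZ, mem_bot] at h4
      have hrad : (⟨y, hyc⟩ : centralizer ({c} : Set K₀)) ∈ solvableRadical (centralizer ({c} : Set K₀)) := by
        apply mem_rad_of_commutator
        intro m
        have h3 := hRC (centralizer ({c} : Set K₀)) hCtop (fun m hm => mul_mem (mul_mem hyc hm) (inv_mem hyc)) m m.2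
        exact mem_radIn_coe.1 h3
      exact fixR_of_mem_rad h5 hpr ι he hσ Fσ hι hfix hidx hcp h1 h2 hyp hyc hrad
  · exact key _ hz' (hW (KK r) r hk _ hz' hzp)

end Cfsg.Agent.H605.Exc.Inner
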